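import Groth.Agent.SiteBase.FlatCech
import Groth.Agent.SiteBase.ModCoh
import Groth.Agent.RpushLib.Closed
import Groth.Agent.ModTensor.Flat

/-!
# Internal Hom into an injective is flasque; acyclicity for direct images
-/

set_option autoImplicit false
set_option backward.isDefEq.respectTransparency false
set_option linter.style.haveILetI false

universe u

open CategoryTheory CategoryTheory.Limits AlgebraicGeometry TopologicalSpace Opposite

noncomputable section

namespace Groth.Agent.ExtRelLib

open Groth.Agent.SiteBase

/-- Restriction along monomorphisms is surjective for totally acyclic sheaves. -/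
theorem surjective_map_of_totallyAcyclic {C : Type u} [SmallCategory C] {J : GrothendieckTopology C}
    (F : Sheaf J AddCommGrpCat.{u}) (hF : CohCx.IsTotallyAcyclic F) {U U' : C}
    (a : U' ⟶ U) [Mono a] : Function.Surjective (F.obj.map a.op) := by
  intro s
  let Fs : Sheaf J (Type u) := (sheafCompose J (forget AddCommGrpCat.{u})).obj F
  let ι : shYoneda J U' ⟶ shYoneda J U := (presheafToSheaf J (Type u)).map (yoneda.map a)
  haveI : Mono ι := inferInstanceAs (Mono ((presheafToSheaf J (Type u)).map (yoneda.map a)))
  obtain ⟨t, ht⟩ := restrict_surjective F hF ι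
    (shHomEquiv (shYoneda J U') F ((shYonedaEquiv U' Fs).symm s))
  let t' : shYoneda J U ⟶ Fs := (shHomEquiv (shYoneda J U) F).symm t
  have e : ι ≫ t' = (shYonedaEquiv U' Fs).symm s := by
    apply (shHomEquiv (shYoneda J U') F).injective
    rw [shHomEquiv_naturality, Equiv.apply_symm_apply, ht]
  refine ⟨shYonedaEquiv U Fs t', ?_⟩
  refine Eq.trans ?_ ((congrArg (shYonedaEquiv U' Fs) e).trans (Equiv.apply_symm_apply _ s))
  simp only [shYonedaEquiv, Equiv.trans_apply, ι]
  erw [Adjunction.homEquiv_naturality_left]
  exact yonedaEquiv_naturality ((sheafificationAdjunction J (Type u)).homEquiv (yoneda.obj U) Fs t') a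

/-- `f_* ℋom(F, I)` is acyclic for direct images when `I` is injective. -/
theorem isAcyclicFor_push_sheafHom {X Y Z : Scheme.{u}} (f : X ⟶ Y) (g : Y ⟶ Z) (F : X.Modules)
    [ModSite.HasSheafHom (O := X.sheaf) F] (I : X.Modules) [Injective I] :
    SpSeqLib.IsAcyclicFor (Scheme.Modules.pushforward g)
      ((Scheme.Modules.pushforward f).obj ((ModSite.sheafHom (O := X.sheaf) F).obj I)) := by
  refine RpushLib.isAcyclicFor_flasque g _ fun {V V'} h => ?_
  haveI : Injective (show ModSite.Mod X.sheaf from I) := ‹Injective I›
  exact surjective_map_of_totallyAcyclic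
    (ModSite.toAb ((ModSite.sheafHom (O := X.sheaf) F).obj I))
    (SiteBase.isTotallyAcyclic_sheafHom (O := X.sheaf) F I)
    (homOfLE (f.preimage_mono h) : f ⁻¹ᵁ V ⟶ f ⁻¹ᵁ V')

end Groth.Agent.ExtRelLib
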